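import Cfsg.Agent.INV.HA.St
import Cfsg.Agent.SOLV.CoprimeGen
import Cfsg.Agent.TECH.MiscSyl

/-!
Harada `E₁₆ · GL₄(2)`: general lemmas (group theory).
-/

set_option autoImplicit false
set_option maxHeartbeats 400000

namespace CL.HA
open Subgroup CL.MSS CL.PComp
open CL.SX (V vv e ZZ pc)

variable {G : Type*} [Group G] [Finite G] {s : P → G} {O : Subgroup G}

instance fact2 : Fact (Nat.Prime 2) := ⟨Nat.prime_two⟩

theorem eq_one_of_od {O S : Subgroup G} (hO : Od O) (hS : IsPGroup 2 S) {g : G} (h1 : g ∈ S) (h2 : g ∈ O) :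
    g = 1 := mem_bot.1 ((inf_eq_bot_of_isPGroup_of_coprime hS hO).le ⟨h1, h2⟩)

theorem syl_sup_od {O S : Subgroup G} (hO : Od O) (h1 : IsPGroup 2 S) (hn : S ≤ NN O) : SylIn 2 S (S ⊔ O) :=
  ⟨le_sup_left, h1, fun Q hQ l1 l2 => le_antisymm (fun q hq => by
    obtain ⟨y, hy, o, ho, rfl⟩ := (mem_sup_of_normalizes_right hn).1 (l2 hq)
    rw [eq_one_of_od hO hQ ((mul_mem_cancel_left (l1 hy)).1 hq) ho, mul_one]
    exact hy) l1⟩

/-- `S1` is Sylow in `S1 ⊔ O`; conjugate `S2` into `S1` by `y * o`, then by `y⁻¹`. For `y ∈ S1 ⊓ S2` the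
commutator `o y o⁻¹ y⁻¹` lies in `S1 ⊓ O = 1`. -/
theorem lift_syl {O S1 S2 : Subgroup G} (hO : Od O) (h1 : IsPGroup 2 S1) (h2 : IsPGroup 2 S2)
    (hn : S1 ≤ NN O) (hle : S2 ≤ S1 ⊔ O) :
    ∃ o ∈ O, o •ᶜ S2 ≤ S1 ∧ ∀ y ∈ S1, y ∈ S2 → o * y = y * o := by
  obtain ⟨k, hk, l⟩ := (syl_sup_od hO h1 hn).exists_conj_le h2 hle
  obtain ⟨y, hy, o, ho, rfl⟩ := (mem_sup_of_normalizes_right hn).1 hk
  have l' : o •ᶜ S2 ≤ S1 := by
    rw [cj_mul, cj_le_iff, cj_eq_of_mem (inv_mem hy)] at l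
    exact l
  refine ⟨o, ho, l', fun y h1' h2' => ?_⟩
  have := eq_one_of_od hO h1 (mul_mem (l' (conj_mem_cj h2')) (inv_mem h1'))
    (g := o * y * o⁻¹ * y⁻¹) (by
      rw [show o * y * o⁻¹ * y⁻¹ = o * (y * o⁻¹ * y⁻¹) by group]
      exact mul_mem ho (conj_mem_of_normalizes hn h1' (inv_mem ho)))
  rwa [mul_inv_eq_one, mul_inv_eq_iff_eq_mul] at this

/-- `lift_syl` for `Y` and `g •ᶜ Y` -/
theorem lift_cen {O Y : Subgroup G} (hO : Od O) (hY : IsPGroup 2 Y) (hn : Y ≤ NN O) {g : G} (hg : g ∈ NN O)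
    (h : ∀ y ∈ Y, g * y * g⁻¹ * y⁻¹ ∈ O) : ∃ o ∈ O, o * g ∈ CC Y := by
  obtain ⟨o, ho, l, -⟩ := lift_syl hO hY (isPGroup_cj g hY) hn (cj_le_iff_forall.2 fun y hy => by
    rw [← inv_mul_cancel_right (g * y * g⁻¹) y]
    exact mul_mem (mem_sup_right (h y hy)) (mem_sup_left hy))
  refine ⟨o, ho, mem_centralizer_iff.2 fun y hy => ?_⟩
  have := eq_one_of_od hO hY (mul_mem (l (conj_mem_cj (conj_mem_cj hy))) (inv_mem hy))
    (g := o * (g * y * g⁻¹) * o⁻¹ * y⁻¹) (by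
      rw [show o * (g * y * g⁻¹) * o⁻¹ * y⁻¹ = o * (g * y * g⁻¹ * y⁻¹) * (y * o⁻¹ * y⁻¹) by group]
      exact mul_mem (mul_mem ho (h y hy)) (conj_mem_of_normalizes hn hy (inv_mem ho)))
  rw [mul_inv_eq_one] at this
  conv_lhs => rw [← this]
  group

/-- take a Sylow subgroup of `X ⊔ Y` that contains `Y` and intersect it with `X` -/
theorem inv_syl {X Y : Subgroup G} (hY : IsPGroup 2 Y) (hn : Y ≤ NN X) :
    ∃ S, SylIn 2 S X ∧ Y ≤ NN S ∧ Y ⊓ X ≤ S ∧ IsPGroup 2 (S ⊔ Y : Subgroup G) := by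
  obtain ⟨R, hR, l⟩ := exists_sylIn_ge (H := Y ⊔ X) hY le_sup_left
  exact ⟨R ⊓ X, hR.inf_normal_of_le (sup_le hn le_normalizer) le_sup_right,
    le_normalizer_inf (l.trans le_normalizer) hn, inf_le_inf_right _ l,
    hR.pgroup.to_le (sup_le inf_le_left l)⟩

/-- Burnside's transfer theorem -/
theorem burn {X K : Subgroup G} (h : SylIn 2 X K) (hc : ∀ g ∈ K, g ∈ NN X → g ∈ CC X) {g : G} (hg : g ∈ K) :
    ∃ δ ∈ X, ∃ o ∈ opOf 2 K, g = δ * o := by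
  have hB := Misc.burnside_pPrimeCore h.toSylow (by
    intro x hx
    rw [h.coe_toSylow, ← subgroupOf_normalizer_eq h.le] at hx
    exact mem_centralizer_iff.2 fun y hy => Subtype.ext (mem_centralizer_iff.1 (hc x x.2 hx) y hy))
  have := congrArg (Subgroup.map K.subtype) hB.sup_eq_top
  rw [Subgroup.map_sup, h.map_toSylow, ← MonoidHom.range_eq_map, range_subtype, sup_comm] at this
  obtain ⟨y, hy, o, ho, e⟩ := (mem_sup_of_normalizes_right (h.le.trans (le_normalizer_opOf 2 K))).1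
    (this.ge hg)
  exact ⟨y, hy, o, ho, e.symm⟩

/-- Burnside's normal complement -/
theorem cen_split {X K : Subgroup G} (h : SylIn 2 X K) (hc : K ≤ CC X) {g : G} (hg : g ∈ K) :
    ∃ δ ∈ X, ∃ o ∈ opOf 2 K, g = δ * o := burn h (fun _ hg _ => hc hg) hg

/-- `o ^ n u o ^ (-n) = w ^ n u` -/
theorem odd_cen {X W : Subgroup G} (hW : IsPGroup 2 W) {o : G} (ho : (orderOf o).Coprime 2) (hc : o ∈ CC W)
    (h : ∀ u ∈ X, o * u * o⁻¹ * u⁻¹ ∈ W) : o ∈ CC X := mem_centralizer_iff.2 fun x hx => by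
  obtain ⟨c, hc', e⟩ : ∃ c ∈ W, o * x = c * x * o := ⟨_, h x hx, by group⟩
  have c1 : Commute o c := (mem_centralizer_iff.1 hc c hc').symm
  have k : ∀ n, o ^ n * x = c ^ n * x * o ^ n := fun n => by
    induction n with
    | zero => simp
    | succ n ih =>
      rw [pow_succ', mul_assoc, ih, ← mul_assoc, ← mul_assoc, (c1.pow_right n).eq, mul_assoc _ o, e, pow_succ c]
      simp only [mul_assoc]
  have := k (orderOf o)
  rw [pow_orderOf_eq_one, one_mul, mul_one, right_eq_mul] at this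
  obtain ⟨m, e'⟩ := isPGroup_iff_forall_mem.1 hW c hc'
  rw [PComp.eq_one_of_coprime_of_pow (ho.coprime_dvd_left (orderOf_dvd_of_pow_eq_one this)) e', one_mul] at e
  exact e.symm

/-- an odd power is a 2-element -/
theorem exists_two_pow (g : G) : ∃ n k, (g ^ (2 * n + 1)) ^ 2 ^ k = 1 := by
  obtain ⟨a, u, ⟨n, rfl⟩, e⟩ := Nat.exists_eq_two_pow_mul_odd (orderOf_pos g).ne'
  exact ⟨n, a, by rw [← pow_mul, mul_comm, ← e, pow_orderOf_eq_one]⟩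

/-- an odd power `k` of `g` is a 2-element, `X ⊔ zpowers k` is a 2-subgroup of `K`, hence abelian -/
theorem cen_of_ab {S K X : Subgroup G} (h : SylIn 2 S K) (hc : ∀ u ∈ S, ∀ w ∈ S, u * w = w * u)
    (hX : IsPGroup 2 X) (hXK : X ≤ K) {g : G} (hg : g ∈ K) (hn : g ∈ NN X) (h2 : g * g ∈ CC X) :
    g ∈ CC X := by
  obtain ⟨n, k, e⟩ := exists_two_pow g
  obtain ⟨y, -, l⟩ := h.exists_conj_le (isPGroup_sup_of_normalizes' hX (isPGroup_zpowers e)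
    (zpowers_le_of_mem (pow_mem hn _))) (sup_le hXK (zpowers_le_of_mem (pow_mem hg _)))
  have : g ^ (2 * n + 1) ∈ CC X := mem_centralizer_iff.2 fun u hu => by
    have := hc _ (l (conj_mem_cj (mem_sup_left hu))) _ (l (conj_mem_cj (mem_sup_right (mem_zpowers _))))
    rwa [conj_mul, conj_mul, mul_left_inj, mul_right_inj] at this
  rwa [pow_succ, pow_mul, sq, mul_mem_cancel_left (pow_mem h2 n)] at this

/-- the 2-group `Y` acts on the coset `g Δ`, which has odd size -/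
theorem odd_fix {Δ Y : Subgroup G} (hΔ : Od Δ) (hY : IsPGroup 2 Y) {g : G}
    (h : ∀ y ∈ Y, ∀ δ ∈ Δ, g⁻¹ * (y * (g * δ) * y⁻¹) ∈ Δ) : ∃ δ ∈ Δ, g * δ ∈ CC Y := by
  letI : MulAction Y Δ :=
    { smul := fun y δ => ⟨g⁻¹ * (y * (g * δ) * (y : G)⁻¹), h y y.2 δ δ.2⟩
      one_smul := fun δ => Subtype.ext (by
        show g⁻¹ * (((1 : Y) : G) * (g * δ) * ((1 : Y) : G)⁻¹) = δ
        simp)
      mul_smul := fun y y' δ => Subtype.ext (by
        show g⁻¹ * (((y * y' : Y) : G) * (g * δ) * ((y * y' : Y) : G)⁻¹) =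
          g⁻¹ * (y * (g * (g⁻¹ * (y' * (g * δ) * (y' : G)⁻¹))) * (y : G)⁻¹)
        rw [coe_mul]; group) }
  obtain ⟨δ, hδ⟩ := hY.nonempty_fixed_point_of_prime_not_dvd_card Δ (coprime_card_iff_not_dvd.1 hΔ)
  refine ⟨δ, δ.2, mem_centralizer_iff.2 fun y hy => ?_⟩
  have : g⁻¹ * (y * (g * δ) * y⁻¹) = δ := congrArg Subtype.val (hδ ⟨y, hy⟩)
  rw [inv_mul_eq_iff_eq_mul, mul_inv_eq_iff_eq_mul] at this
  exact this

/-- normalisers grow -/
theorem step_up {Y K : Subgroup G} (hY : IsPGroup 2 Y) (hle : Y ≤ K) (h : ¬ SylIn 2 Y K) :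
    ∃ y ∈ K, y ∈ NN Y ∧ y ∉ Y ∧ y * y ∈ Y := by
  classical
  obtain ⟨S, hS, l⟩ := exists_sylIn_ge hY hle
  obtain ⟨g, hg, n⟩ := SetLike.exists_of_lt (lt_inf_normalizer_of_lt hS.pgroup
    (lt_of_le_of_ne l fun e => h (e ▸ hS)))
  obtain ⟨k, e⟩ := isPGroup_iff_forall_mem.1 hS.pgroup g hg.1
  have ex : ∃ k, g ^ 2 ^ k ∈ Y := ⟨k, e ▸ one_mem _⟩
  obtain ⟨j, hj⟩ := Nat.exists_eq_succ_of_ne_zero (n := Nat.find ex) fun e => n (by
    simpa [e] using Nat.find_spec ex)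
  refine ⟨g ^ 2 ^ j, pow_mem (hS.le hg.1) _, pow_mem hg.2 _, Nat.find_min ex (by omega), ?_⟩
  have := Nat.find_spec ex
  rwa [hj, pow_succ, pow_mul, sq] at this

theorem pg_sup {Y : Subgroup G} (hY : IsPGroup 2 Y) {y : G} (hn : y ∈ NN Y) (h2 : y * y ∈ Y) :
    IsPGroup 2 (Y ⊔ zpowers y : Subgroup G) := by
  obtain ⟨k, e⟩ := isPGroup_iff_forall_mem.1 hY _ h2
  exact isPGroup_sup_of_normalizes' hY (isPGroup_zpowers (k := k + 1) (by rw [pow_succ', pow_mul, sq, e]))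
    (zpowers_le_of_mem hn)

theorem mem_sup_zp {Y : Subgroup G} {y : G} (hn : y ∈ NN Y) (h2 : y * y ∈ Y) {g : G} :
    g ∈ Y ⊔ zpowers y ↔ g ∈ Y ∨ g * y ∈ Y := by
  refine ⟨fun h => ?_, fun h => h.elim mem_sup_left fun h => ?_⟩
  · obtain ⟨u, hu, _, ⟨n, rfl⟩, rfl⟩ := (mem_sup_of_normalizes_left (zpowers_le_of_mem hn)).1 h
    have k : ∀ m : ℤ, y ^ (2 * m) ∈ Y := fun m => by
      rw [zpow_mul, zpow_two]; exact zpow_mem h2 m
    rcases Int.even_or_odd' n with ⟨m, rfl | rfl⟩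
    · exact .inl (mul_mem hu (k m))
    · refine .inr ?_
      show u * y ^ (2 * m + 1) * y ∈ Y
      rw [mul_assoc, ← zpow_add_one, show 2 * m + 1 + 1 = 2 * (m + 1) by ring]
      exact mul_mem hu (k _)
  · exact (mul_mem_cancel_right (mem_sup_right (mem_zpowers y))).1 (mem_sup_left h)

/-- two conjugates of a weakly closed subgroup that normalise `Y` meet it in the same order
(`WC.exists_conj` in `H ⊓ N(Y)`) -/
theorem wc_meet {Q H Y : Subgroup G} (h : WC 2 Q H) {g : G} (hg : g ∈ H) (h1 : Q ≤ NN Y)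
    (h2 : g •ᶜ Q ≤ NN Y) : Nat.card ↥(Q ⊓ Y) = Nat.card ↥(g •ᶜ Q ⊓ Y) := by
  obtain ⟨k, hk, e⟩ := h.exists_conj (K := H ⊓ NN Y) (le_inf h.le h1) inf_le_left hg
    (le_inf (cj_le_of_mem h.le hg) h2)
  rw [e, ← card_cj k, cj_inf, cj_eq_of_mem_normalizer hk.2]

/-- conjugate `g •ᶜ Q` into a Sylow 2-subgroup of `L` that contains `R` -/
theorem wc_choose {Q H L R : Subgroup G} (h : WC 2 Q H) {g : G} (hg : g ∈ H) (hL : L ≤ H)
    (hQL : g •ᶜ Q ≤ L) (hR : IsPGroup 2 R) (hRL : R ≤ L) : ∃ n ∈ L, R ≤ NN ((n * g) •ᶜ Q) := by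
  obtain ⟨S, hS, l⟩ := exists_sylIn_ge hR hRL
  obtain ⟨n, hn, k⟩ := hS.exists_conj_le (isPGroup_cj g h.pgroup) hQL
  have := h.cj (n * g)
  rw [cj_eq_of_mem (mul_mem (hL hn) hg)] at this
  exact ⟨n, hn, l.trans (this.le_normalizer hS.pgroup (cj_mul n g Q ▸ k) (hS.le.trans hL))⟩

/-- a 2-subgroup of `H` that normalises a conjugate of `Q` is moved into `S` together with it -/
theorem wc_frame {Q H S R : Subgroup G} (h : WC 2 Q H) (hS : SylIn 2 S H) (hQ : Q ≤ S) {g : G} (hg : g ∈ H)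
    (hR : IsPGroup 2 R) (hRH : R ≤ H) (hn : R ≤ NN (g •ᶜ Q)) :
    ∃ k ∈ H, k •ᶜ (g •ᶜ Q) = Q ∧ k •ᶜ R ≤ S := by
  obtain ⟨k, hk, l⟩ := hS.exists_conj_le (isPGroup_sup_of_normalizes hR (isPGroup_cj g h.pgroup) hn)
    (sup_le hRH (cj_le_of_mem h.le hg))
  rw [cj_sup, sup_le_iff, ← cj_mul] at l
  exact ⟨k, hk, by rw [← cj_mul]; exact h.eq_of_le hS.pgroup hQ (mul_mem hk hg) l.2, l.1⟩

/-- control of fusion in an abelian weakly closed subgroup (`WC.exists_conj` in `H ⊓ C(g •ᶜ Y)`) -/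
theorem wc_ctrl {Q H Y : Subgroup G} (h : WC 2 Q H) (hc : ∀ u ∈ Q, ∀ w ∈ Q, u * w = w * u) (hY : Y ≤ Q)
    {g : G} (hg : g ∈ H) (h2 : g •ᶜ Y ≤ Q) :
    ∃ n ∈ H, n ∈ NN Q ∧ ∀ y ∈ Y, n * y * n⁻¹ = g * y * g⁻¹ := by
  obtain ⟨k, hk, e⟩ := h.exists_conj (K := H ⊓ CC (g •ᶜ Y))
    (le_inf h.le fun u hu => mem_centralizer_iff.2 fun w hw => hc w (h2 hw) u hu) inf_le_left hg
    (le_inf (cj_le_of_mem h.le hg) (by
      rw [CC, ← cj_centralizer]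
      exact cj_mono g fun u hu => mem_centralizer_iff.2 fun w hw => hc w (hY hw) u hu))
  refine ⟨k⁻¹ * g, mul_mem (inv_mem hk.1) hg, mem_normalizer_iff_cj.2 (by rw [cj_mul, e, inv_cj_cj]),
    fun y hy => ?_⟩
  rw [show k⁻¹ * g * y * (k⁻¹ * g)⁻¹ = k⁻¹ * (g * y * g⁻¹ * k) by group,
    mem_centralizer_iff.1 hk.2 _ (conj_mem_cj hy), inv_mul_cancel_left]

omit [Finite G] in
theorem Ac.mono {g : G} {X Y : Subgroup P} {f : P → P} (h : Ac g s X f) (hY : Y ≤ X) : Ac g s Y f :=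
  fun m hm => h m (hY hm)

theorem norm_im {H : Type*} [Group H] {s : H → G} {Y : Subgroup H} {g : G}
    (h : ∀ m ∈ Y, g * s m * g⁻¹ ∈ im s Y) : g ∈ NN (im s Y) :=
  mem_normalizer_of_cj_le (map_le_iff_le_comap.2 (im_le.2 h))

theorem Ac.norm {g : G} {X Y : Subgroup P} {f : P → P} (h : Ac g s X f) (hY : Y ≤ X)
    (hf : ∀ m ∈ Y, f m ∈ Y) : g ∈ NN (im s Y) :=
  norm_im fun m hm => h m (hY hm) ▸ mem_im s (hf m hm)

theorem Ch.norm {X Y : Subgroup P} (h : Ch X s) (hY : Y ≤ X) {m : P} (hm : m ∈ X)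
    (hf : ∀ n ∈ Y, m * n * m⁻¹ ∈ Y) : s m ∈ NN (im s Y) :=
  norm_im fun n hn => h.conj hm (hY hn) ▸ HA.mem_im s (hf n hn)

omit [Finite G] in
theorem mem_CC_im {H : Type*} [Group H] {s : H → G} {Y : Subgroup H} {g : G} :
    g ∈ CC (im s Y) ↔ ∀ m ∈ Y, g * s m = s m * g :=
  ⟨fun h m hm => (mem_centralizer_iff.1 h _ (mem_im s hm)).symm, fun h => mem_centralizer_iff.2 fun u hu =>
    mem_centralizer_singleton_iff.1 ((im_le (K := Cz g)).2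
      (fun m hm => mem_centralizer_singleton_iff.2 (h m hm).symm) hu)⟩

/-- the automorphism of the model induced by an element that normalises the image -/
theorem Ch.exists_aut {X : Subgroup P} (h : Ch X s) {g : G} (hg : g ∈ NN (im s X)) :
    ∃ α : P → P, (∀ m ∈ X, α m ∈ X) ∧ Ac g s X α ∧ (∀ m ∈ X, ∀ n ∈ X, α (m * n) = α m * α n) ∧
      (∀ m ∈ X, ∀ n ∈ X, α m = α n → m = n) ∧ ∀ n ∈ X, ∃ m ∈ X, α m = n := by
  have ex : ∀ m, ∃ n, m ∈ X → n ∈ X ∧ g * s m * g⁻¹ = s n := fun m => by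
    by_cases hm : m ∈ X
    · obtain ⟨n, hn, e⟩ := (h.mem_im le_rfl).1 ((mem_normalizer_iff.1 hg _).1 (HA.mem_im s hm))
      exact ⟨n, fun _ => ⟨hn, e.symm⟩⟩
    · exact ⟨1, fun k => absurd k hm⟩
  choose α hα using ex
  refine ⟨α, fun m hm => (hα m hm).1, fun m hm => (hα m hm).2, fun m hm n hn => ?_, fun m hm n hn e => ?_,
    fun n hn => ?_⟩
  · refine h.eq_of (hα _ (mul_mem hm hn)).1 (mul_mem (hα m hm).1 (hα n hn).1) ?_
    rw [h.mul _ (hα m hm).1 _ (hα n hn).1, ← (hα m hm).2, ← (hα n hn).2, ← (hα _ (mul_mem hm hn)).2,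
      h.mul m hm n hn, conj_mul]
  · refine h.eq_of hm hn ?_
    have := (hα m hm).2
    rwa [e, ← (hα n hn).2, mul_left_inj, mul_right_inj] at this
  · obtain ⟨m, hm, e⟩ := (h.mem_im le_rfl).1 (conj_mem_of_normalizes' le_rfl hg (HA.mem_im s hn))
    refine ⟨m, hm, h.eq_of (hα m hm).1 hn ?_⟩
    rw [← (hα m hm).2, e]; group

end CL.HA
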