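import Cfsg.Agent.INV.HA.Mod
import Cfsg.Agent.TECH.WeakClosed
import Cfsg.Agent.SIG.PBase

/-!
Harada's theorem on `E₁₆ · GL₄(2)`: subgroups, named elements and partial automorphisms of the model,
charts, and the stages of the proof.

Dictionary (`U₅(2)` = `T0`): `z = e₁₅`, `a = e₂₅`, `b = e₃₅`, `c = e₄₅`; `ε p = il (e p)`; `zb i = ε (2i) ε (2i+1)`;
`ab i` interchanges the points `2i`, `2i+1`; `d = zb 0`, `x = ab 0`.
-/

set_option autoImplicit false
set_option maxHeartbeats 400000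

namespace CL.HA
open Subgroup CL.MSS CL.PComp
open CL.SX (V vv e lin mkAut lin_e hom_ext aut_ext lin_id sgV pc pc4 ZZ cv)

/-! ### subgroups of `V` and `TS` -/

/-- parity of the weight -/
def par (v : V) : Bool := pc v % 2 == 1
/-- the scalar product -/
def dot (v w : V) : Bool := par (vv (v.n &&& w.n))
/-- `c` or `1` -/
def bc (b : Bool) (c : V) : V := bif b then c else 1

def Ev : Subgroup V := sgV (fun v => !par v) (by decide +kernel)
def RM : Subgroup V :=
  sgV (fun v => Nat.testBit 0x8001000000001008000004200240000000000240042000001008000000008001 v.n)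
    (by decide +kernel)
/-- `⟨255⟩` -/
def Z1 : Subgroup V := sgV (fun v => v.n == 0 || v.n == 255) (by decide +kernel)
/-- `ZZ ⊓ RM = ⟨255, 0xCC, 0xF0⟩` -/
def Zev : Subgroup V := sgV (fun v => Nat.testBit 0x8001000000001008000000000000000000000000000000001008000000008001 v.n)
  (by decide +kernel)
/-- `⟨0xAA, 0xCC, 0xF0⟩` -/
def RM0 : Subgroup V :=
  sgV (fun v => Nat.testBit 0x1000000001000000004000040000000000040040000001000000000000001 v.n)
    (by decide +kernel)
/-- the vectors that vanish on block `0` -/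
def B0v : Subgroup V := sgV (fun v => v.n % 4 == 0) (by decide +kernel)

def sgS (p : TS → Bool) (h : p 1 = true ∧ ∀ a, p a = true → p a⁻¹ = true ∧
    ∀ b, p b = true → p (a * b) = true) : Subgroup TS where
  carrier := {v | p v = true}
  one_mem' := h.1
  mul_mem' := fun ha hb => (h.2 _ ha).2 _ hb
  inv_mem' := fun ha => (h.2 _ ha).1

/-- the translations -/
def A0 : Subgroup TS := sgS (fun t => Nat.testBit 0x80010000000080018001000000008001 t.n) (by decide +kernel)
/-- the even permutations -/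
def U : Subgroup TS := sgS (fun t => pc4 t.n % 2 == 0) (by decide +kernel)
/-- the kernel of the action on the blocks -/
def Lo : Subgroup TS := sgS (fun t => t.n < 16) (by decide +kernel)
/-- `Lo ⊓ U` -/
def LoU : Subgroup TS := sgS (fun t => t.n < 16 && pc4 t.n % 2 == 0) (by decide +kernel)
/-- the elements acting on the blocks as the regular four-group -/
def X0 : Subgroup TS := sgS (fun t => t.n.testBit 4 == t.n.testBit 5) (by decide +kernel)
/-- `X0 ⊓ U` -/
def X0U : Subgroup TS := sgS (fun t => t.n.testBit 4 == t.n.testBit 5 && pc4 t.n % 2 == 0) (by decide +kernel)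
/-- `(V₄ × V₄) ⟨c⟩` -/
def X1 : Subgroup TS := sgS (fun t => Nat.testBit 0x9009 (t.n % 16)) (by decide +kernel)
/-- `⟨e₂₃, e₂₄, e₃₄⟩` -/
def U0 : Subgroup TS := sgS (fun t => Nat.testBit 0x144100001441 t.n) (by decide +kernel)
/-- `⟨ab 1, ab 2, ab 3⟩` -/
def Lo' : Subgroup TS := sgS (fun t => t.n < 16 && t.n % 2 == 0) (by decide +kernel)
/-- `⟨ab 0⟩` -/
def Lx : Subgroup TS := sgS (fun t => t.n < 2) (by decide +kernel)

instance (v : V) : Decidable (v ∈ Ev) := inferInstanceAs (Decidable (_ = true))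
instance (v : V) : Decidable (v ∈ RM) := inferInstanceAs (Decidable (_ = true))
instance (v : V) : Decidable (v ∈ Z1) := inferInstanceAs (Decidable (_ = true))
instance (v : V) : Decidable (v ∈ Zev) := inferInstanceAs (Decidable (_ = true))
instance (v : V) : Decidable (v ∈ RM0) := inferInstanceAs (Decidable (_ = true))
instance (v : V) : Decidable (v ∈ B0v) := inferInstanceAs (Decidable (_ = true))
instance (v : V) : Decidable (v ∈ (⊤ : Subgroup V)) := isTrue trivial
instance (v : V) : Decidable (v ∈ (⊥ : Subgroup V)) := decidable_of_iff (v = 1) mem_bot.symm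
instance (t : TS) : Decidable (t ∈ A0) := inferInstanceAs (Decidable (_ = true))
instance (t : TS) : Decidable (t ∈ U) := inferInstanceAs (Decidable (_ = true))
instance (t : TS) : Decidable (t ∈ Lo) := inferInstanceAs (Decidable (_ = true))
instance (t : TS) : Decidable (t ∈ LoU) := inferInstanceAs (Decidable (_ = true))
instance (t : TS) : Decidable (t ∈ X0) := inferInstanceAs (Decidable (_ = true))
instance (t : TS) : Decidable (t ∈ X0U) := inferInstanceAs (Decidable (_ = true))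
instance (t : TS) : Decidable (t ∈ X1) := inferInstanceAs (Decidable (_ = true))
instance (t : TS) : Decidable (t ∈ U0) := inferInstanceAs (Decidable (_ = true))
instance (t : TS) : Decidable (t ∈ Lo') := inferInstanceAs (Decidable (_ = true))
instance (t : TS) : Decidable (t ∈ Lx) := inferInstanceAs (Decidable (_ = true))
instance (t : TS) : Decidable (t ∈ (⊤ : Subgroup TS)) := isTrue trivial
instance (t : TS) : Decidable (t ∈ (⊥ : Subgroup TS)) := decidable_of_iff (t = 1) mem_bot.symm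

/-! ### subgroups of `P` -/

/-- the semidirect product of an invariant subgroup of `V` with a subgroup of `TS` -/
def sd (W : Subgroup V) (X : Subgroup TS) (h : ∀ t, t ∈ X → ∀ v, v ∈ W → aS t v ∈ W := by decide +kernel) :
    Subgroup P where
  carrier := {m | m.v ∈ W ∧ m.t ∈ X}
  one_mem' := ⟨one_mem _, one_mem _⟩
  mul_mem' := fun ha hb => ⟨mul_mem ha.1 (h _ ha.2 _ hb.1), mul_mem ha.2 hb.2⟩
  inv_mem' := fun ha => ⟨h _ (inv_mem ha.2) _ ha.1, inv_mem ha.2⟩

theorem mem_sd {W : Subgroup V} {X : Subgroup TS} {h} {m : P} : m ∈ sd W X h ↔ m.v ∈ W ∧ m.t ∈ X := Iff.rfl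

/-- use this form for `decide`: it is much faster than a filter over all of `P` -/
theorem forall_sd {W : Subgroup V} {X : Subgroup TS} {h} {p : P → Prop} :
    (∀ m ∈ sd W X h, p m) ↔ ∀ v, v ∈ W → ∀ t, t ∈ X → p ⟨v, t⟩ :=
  ⟨fun H v hv t ht => H ⟨v, t⟩ ⟨hv, ht⟩, fun H m hm => H m.v hm.1 m.t hm.2⟩
theorem exists_sd {W : Subgroup V} {X : Subgroup TS} {h} {p : P → Prop} :
    (∃ m ∈ sd W X h, p m) ↔ ∃ v, v ∈ W ∧ ∃ t, t ∈ X ∧ p ⟨v, t⟩ :=
  ⟨fun ⟨m, hm, H⟩ => ⟨m.v, hm.1, m.t, hm.2, H⟩, fun ⟨v, hv, t, ht, H⟩ => ⟨⟨v, t⟩, ⟨hv, ht⟩, H⟩⟩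

theorem card_sd {W : Subgroup V} {X : Subgroup TS} {h} : Nat.card (sd W X h) = Nat.card W * Nat.card X := by
  rw [← Nat.card_prod]
  exact Nat.card_congr ⟨fun m => (⟨m.1.v, m.2.1⟩, ⟨m.1.t, m.2.2⟩), fun p => ⟨⟨p.1, p.2⟩, p.1.2, p.2.2⟩,
    fun _ => rfl, fun _ => rfl⟩

instance (W : Subgroup V) (X : Subgroup TS) (h) [∀ v, Decidable (v ∈ W)] [∀ t, Decidable (t ∈ X)] (m : P) :
    Decidable (m ∈ sd W X h) := inferInstanceAs (Decidable (_ ∧ _))

/-- order `2⁸` -/ @[reducible] def E : Subgroup P := sd ⊤ ⊥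
/-- order `2⁷` -/ @[reducible] def F : Subgroup P := sd Ev ⊥
/-- `⟨z, e₁₂, e₁₃, e₁₄⟩` -/ @[reducible] def A' : Subgroup P := sd RM ⊥
/-- `⟨z, a, b, c⟩` -/ @[reducible] def A : Subgroup P := sd Z1 A0
/-- extraspecial of order `2⁷` -/ @[reducible] def Q : Subgroup P := sd RM A0
/-- `U₅(2)`, order `2¹⁰` -/ @[reducible] def T0 : Subgroup P := sd RM U
/-- a complement to `A` in `T0`, order `2⁶` -/ @[reducible] def CU : Subgroup P := sd RM0 U0
/-- order `2¹⁰` -/ @[reducible] def FQ : Subgroup P := sd Ev A0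
/-- order `2¹³` -/ @[reducible] def T1 : Subgroup P := sd Ev U
/-- the Sylow 2-subgroup of `A₁₆`, order `2¹⁴` -/ @[reducible] def S1 : Subgroup P := sd Ev ⊤
/-- `⟨zb i⟩`, order `16` -/ @[reducible] def Z : Subgroup P := sd ZZ ⊥
/-- the product of the four-groups `⟨ab i, zb i⟩`, order `2⁸` -/ @[reducible] def D : Subgroup P := sd ZZ Lo
/-- `D ⊓ T0 = ⟨z, e₁₃, e₁₄, a, e₂₃, e₂₄⟩`, order `64` -/ @[reducible] def R : Subgroup P := sd Zev LoU
/-- `R ⊔ Z`, order `128` -/ @[reducible] def R1 : Subgroup P := sd ZZ LoU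
/-- `R ⊔ A`, order `2⁸` -/ @[reducible] def RA : Subgroup P := sd Zev X0U
/-- `D ⊔ A`, order `2¹⁰` -/ @[reducible] def DA : Subgroup P := sd ZZ X0
/-- `D₈⁴`, order `2¹²` -/ @[reducible] def J : Subgroup P := sd ⊤ Lo
/-- `D₈³` on the blocks `1, 2, 3`, order `2⁹` -/ @[reducible] def J' : Subgroup P := sd B0v Lo'
/-- the domain of `omg`, order `2¹¹` -/ @[reducible] def DB : Subgroup P := sd ZZ ⊤
/-- the domain of `rh`, order `2¹⁴` -/ @[reducible] def DR : Subgroup P := sd ⊤ X0
/-- the domain of `rh'`, order `2¹³` -/ @[reducible] def DR' : Subgroup P := sd ⊤ X1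
/-- `T0 ⊓ DR`, order `2⁹` -/ @[reducible] def T00 : Subgroup P := sd RM X0U
/-- `T0 ⊓ DR'`, order `2⁹` -/ @[reducible] def T01 : Subgroup P := sd RM X1
/-- `T0 ⊓ DB`, order `2⁹` -/ @[reducible] def T02 : Subgroup P := sd Zev U
/-- `⟨ε 2, …, ε 7⟩`, order `64` -/ @[reducible] def B : Subgroup P := sd B0v ⊥
/-- `E ⟨x⟩ = C(B)`, order `2⁹` -/ @[reducible] def EX : Subgroup P := sd ⊤ Lx

/-! ### elements -/

def ε (p : Fin 8) : P := il (e p)
def z : P := il (vv 255)
def zb (i : Fin 4) : P := il (vv (3 * 4 ^ i.1))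
def ab (i : Fin 4) : P := ir (ts (2 ^ i.1))
def d : P := il (vv 3)
def x : P := ir (ts 1)
def a : P := ir (ts 15)
def b : P := ir (ts 48)
def c : P := ir (ts 64)
def e12 : P := il (vv 0xAA)
def e13 : P := il (vv 0xCC)
def e14 : P := il (vv 0xF0)
def e23 : P := ir (ts 10)
def e24 : P := ir (ts 12)
def e34 : P := ir (ts 32)

/-- the product of the `zb i` over the bits `i < 4` of `n` -/
def zz (n : ℕ) : V := vv (3 * (n % 2) + 12 * (n / 2 % 2) + 48 * (n / 4 % 2) + 192 * (n / 8 % 2))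
/-- the even bits -/
def nz (v : V) : ℕ := v.n % 2 + 2 * (v.n / 4 % 2) + 4 * (v.n / 16 % 2) + 8 * (v.n / 64 % 2)
/-- the odd bits -/
def no (v : V) : ℕ := v.n / 2 % 2 + 2 * (v.n / 8 % 2) + 4 * (v.n / 32 % 2) + 8 * (v.n / 128 % 2)

/-! ### partial automorphisms -/

/-- on `DB`: `zb i ↦ ab i ↦ ab i * zb i`, the block permutations `ir (ts (16 h))` are fixed -/
def omg (m : P) : P := ir (ts (nz m.v)) * ir (ts (16 * (m.t.n / 16))) * ⟨zz m.t.n, ts (m.t.n % 16)⟩

def σ1 : Equiv.Perm (Fin 8) := ⟨![0, 1, 4, 5, 6, 7, 2, 3], ![0, 1, 6, 7, 2, 3, 4, 5], by decide, by decide⟩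
def σ2 : Equiv.Perm (Fin 8) := ⟨![0, 2, 3, 1, 4, 6, 7, 5], ![0, 3, 1, 2, 4, 7, 5, 6], by decide, by decide⟩
def R1T : ℕ := 0x7ef9dba6ed99b27af1cb86ad18b000000000000000000000000000000000000000000000000000000000fffbdfaefdb9f2fbf3cf8ebd38f09f3a5ca8f1a1c29b324c88b120c0000000000000000000000000000000000000000000000000000000001e3858a0e181821a304880a10080
def R2T : ℕ := 0x9e0005f00000000000000de0007fb80004c00000000000000f80006cc600073000000000000008600053e00006000000000000000a0000401e0001f000000000000005e0003f380000c00000000000000780002c46000330000000000000006000136000020000000000000002000000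
/-- `pm σ1` -/
def r1V (v : V) : V := lin (cv 0x0804804020100201) v
/-- `pm σ2` -/
def r2V (v : V) : V := lin (cv 0x2080401002080401) v
theorem r1V_eq (v : V) : r1V v = pm σ1 v := by
  rw [r1V, pm_apply]; congr 2; funext i; revert i; decide +kernel
theorem r2V_eq (v : V) : r2V v = pm σ2 v := by
  rw [r2V, pm_apply]; congr 2; funext i; revert i; decide +kernel
/-- on `DR`: conjugation by the point permutation `σ1` (`a ↦ a`, `b ↦ c ↦ b c`) -/
def rh (m : P) : P := ⟨r1V m.v, ts (R1T >>> (7 * m.t.n))⟩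
/-- on `DR'`: conjugation by the point permutation `σ2` (`a ↦ b ↦ a b`, `c ↦ c`) -/
def rh' (m : P) : P := ⟨r2V m.v, ts (R2T >>> (7 * m.t.n))⟩

/-- the four-groups chosen by `I`: on block `i` take `ab i, ab i * zb i` if bit `i` of `I` is set, else
`ε (2i), ε (2i+1)` -/
def jf (I : Fin 16) (v : V) : P :=
  ⟨vv (v.n &&& (255 ^^^ (zz I.1).n)) * zz (no v &&& I.1), ts ((nz v ^^^ no v) &&& I.1)⟩
theorem jf_chk : ∀ I : Fin 16, jf I 1 = 1 ∧ ∀ v i, jf I (v * e i) = jf I v * jf I (e i) := by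
  decide +kernel
def jI (I : Fin 16) : V →* P := homOf (jf I) (jf_chk I)
theorem jI_apply (I : Fin 16) (v : V) : jI I v = jf I v := rfl
/-- the sixteen elementary abelian subgroups of order 256 -/
def EI (I : Fin 16) : Subgroup P := (jI I).range

theorem par_mul : ∀ v w : V, par (v * w) = xor (par v) (par w) := by decide +kernel
theorem par_aS : ∀ t v, par (aS t v) = par v := by decide +kernel
theorem aS_255 : ∀ t, aS t (vv 255) = vv 255 := by decide +kernel
theorem bc_xor (p q : Bool) (c : V) : bc (xor p q) c = bc p c * bc q c := by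
  cases p <;> cases q <;> simp [bc]
theorem aS_bc (t : TS) (p : Bool) : aS t (bc p (vv 255)) = bc p (vv 255) := by
  cases p
  · exact aS_one t
  · exact aS_255 t

/-- the automorphism `m ↦ m z ^ (par m.v)` -/
def zet : P →* P := MonoidHom.mk' (fun m => ⟨m.v * bc (par m.v) (vv 255), m.t⟩) fun m n =>
  P.ext (by simp only [P.mul_v, par_mul, par_aS, bc_xor, aS_mul, aS_bc]; ac_rfl) rfl
theorem zet_apply (m : P) : zet m = ⟨m.v * bc (par m.v) (vv 255), m.t⟩ := rfl

/-- an involution of `J` is conjugate to `il (ev m)` -/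
def ev (m : P) : V := vv (m.v.n ||| (zz m.t.n).n)

/-! ### the action of `S₉` -/

/-- `e i` is the pair `{i, 8}`, and `V` is the space of even subsets of nine points -/
def dd (i : Fin 9) : V := vv (2 ^ i.1)
theorem dd_cast (i : Fin 8) : dd i.castSucc = e i := rfl
theorem dd_last : dd 8 = 1 := by decide +kernel
theorem lin_dd (f : Fin 9 → V) (j : Fin 9) : lin (fun i => f i.castSucc * f 8) (dd j) = f j * f 8 := by
  refine Fin.lastCases ?_ (fun i => ?_) j
  · show lin _ (dd 8) = f 8 * f 8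
    rw [dd_last, map_one, SX.V.mul_self]
  · rw [dd_cast, lin_e]

def pm9 : Equiv.Perm (Fin 9) →* MulAut V :=
  MonoidHom.mk' (fun σ => mkAut (fun i => dd (σ i.castSucc) * dd (σ 8))
      (fun i => dd (σ⁻¹ i.castSucc) * dd (σ⁻¹ 8)) fun i => by
    have k (τ : Equiv.Perm (Fin 9)) : lin (fun i => dd (τ⁻¹ i.castSucc) * dd (τ⁻¹ 8))
        (dd (τ i.castSucc) * dd (τ 8)) = e i := by
      rw [map_mul, lin_dd (fun j => dd (τ⁻¹ j)), lin_dd (fun j => dd (τ⁻¹ j))]
      simp only [Equiv.Perm.coe_inv, Equiv.symm_apply_apply, dd_cast, dd_last, one_mul, mul_assoc,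
        SX.V.mul_self, mul_one]
    exact ⟨k σ, by simpa using k σ⁻¹⟩)
    fun σ τ => aut_ext fun i => by
      simp only [SX.mkAut_apply, MulAut.mul_apply, lin_e, map_mul, lin_dd (fun j => dd (σ j)),
        Equiv.Perm.mul_apply]
      rw [mul_mul_mul_comm, SX.V.mul_self, mul_one]

theorem pm9_apply (σ : Equiv.Perm (Fin 9)) (v : V) :
    pm9 σ v = lin (fun i => dd (σ i.castSucc) * dd (σ 8)) v := rfl
theorem pm9_dd (σ : Equiv.Perm (Fin 9)) (j k : Fin 9) : pm9 σ (dd j * dd k) = dd (σ j) * dd (σ k) := by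
  rw [map_mul, pm9_apply, pm9_apply, lin_dd (fun j => dd (σ j)), lin_dd (fun j => dd (σ j)),
    mul_mul_mul_comm, SX.V.mul_self, mul_one]

/-- `v ↦ v 255 ^ (par v)` -/
def ζV : MulAut V := mkAut (fun i => e i * vv 255) (fun i => e i * vv 255) (by decide +kernel)
theorem ζV_apply : ∀ v, ζV v = v * bc (par v) (vv 255) := by
  simp only [ζV, SX.mkAut_apply]; decide +kernel
def pm9' : Equiv.Perm (Fin 9) →* MulAut V := (MulAut.conj ζV).toMonoidHom.comp pm9
/-- half the size of the even subset -/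
def w9 (v : V) : ℕ := (pc v + 1) / 2
/-- all points but `j` -/
def u9 (j : Fin 9) : V := vv 255 * dd j

/-- `ψ` is the transvection with centre `c` and axis `w ^ ⊥` -/
def IsTv (ψ : MulAut V) (c w : V) : Prop :=
  c ≠ 1 ∧ w ≠ 1 ∧ dot c w = false ∧ ∀ v, ψ v = v * bc (dot v w) c
/-- every 2-subgroup of `Φ` is linearly conjugate into `acS.range` -/
def Sy2 (Φ : Subgroup (MulAut V)) : Prop :=
  ∀ X ≤ Φ, IsPGroup 2 X → ∃ ψ : MulAut V, ∀ g ∈ X, ψ * g * ψ⁻¹ ∈ acS.range

end CL.HA
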