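import Cfsg.Agent.INV.HA.Defs

/-!
Harada `E₁₆ · GL₄(2)`: the actions of `S₈` and `S₉` on `V`.
-/

set_option autoImplicit false
set_option maxHeartbeats 400000

namespace CL.HA
open Subgroup CL.MSS CL.PComp
open CL.SX (V vv e ZZ pc)



namespace S9

theorem pc_sw : ∀ (i j : Fin 8) (v : V), pc (pm (Equiv.swap i j) v) = pc v := by
  simp only [pm_apply]; decide +kernel
theorem sw_255 : ∀ i j : Fin 8, pm (Equiv.swap i j) (vv 255) = vv 255 := by
  simp only [pm_apply]; decide +kernel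
theorem w9_sw : ∀ (i j : Fin 9) (v : V), w9 (pm9 (Equiv.swap i j) v) = w9 v := by
  simp only [pm9_apply]; decide +kernel
theorem sw_u9 : ∀ i j k : Fin 9, pm9 (Equiv.swap i j) (u9 k) = u9 (Equiv.swap i j k) := by
  simp only [pm9_apply]; decide +kernel
theorem desc8 : ∀ v : V, v = vv (2 ^ pc v - 1) ∨ ∃ i j, (pm (Equiv.swap i j) v).n < v.n := by
  simp only [pm_apply]; decide +kernel
theorem desc9 : ∀ v : V, v = vv (2 ^ (2 * w9 v - 1) - 1) ∨ ∃ i j, (pm9 (Equiv.swap i j) v).n < v.n := by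
  simp only [pm9_apply]; decide +kernel

theorem nf8 (v : V) : ∃ σ, pm σ v = vv (2 ^ pc v - 1) := by
  induction h : v.n using Nat.strong_induction_on generalizing v with
  | _ n ih =>
    rcases desc8 v with e | ⟨i, j, e⟩
    · exact ⟨1, by rw [map_one, MulAut.one_apply, ← e]⟩
    · obtain ⟨σ, hσ⟩ := ih _ (h ▸ e) _ rfl
      exact ⟨σ * Equiv.swap i j, by rw [map_mul, MulAut.mul_apply, hσ, pc_sw]⟩

theorem nf9 (v : V) : ∃ σ, pm9 σ v = vv (2 ^ (2 * w9 v - 1) - 1) := by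
  induction h : v.n using Nat.strong_induction_on generalizing v with
  | _ n ih =>
    rcases desc9 v with e | ⟨i, j, e⟩
    · exact ⟨1, by rw [map_one, MulAut.one_apply, ← e]⟩
    · obtain ⟨σ, hσ⟩ := ih _ (h ▸ e) _ rfl
      exact ⟨σ * Equiv.swap i j, by rw [map_mul, MulAut.mul_apply, hσ, w9_sw]⟩

theorem ext_eq {τ : Equiv.Perm (Fin 9)} {σ : Equiv.Perm (Fin 8)} (h1 : τ 8 = 8) (h2 : ∀ i, τ i.castSucc = (σ i).castSucc) :
    pm9 τ = pm σ := SX.aut_ext fun i => by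
  rw [pm9_apply, SX.lin_e, h1, h2, dd_cast, dd_last, mul_one, pm_e]

theorem ζV_e (i : Fin 8) : ζV (e i) = e i * vv 255 := by rw [ζV, SX.mkAut_apply, SX.lin_e]
theorem ζV_255 : ζV (vv 255) = vv 255 := by rw [ζV_apply]; decide +kernel
theorem pc_ζ : ∀ j, pc (ζV (u9 j)) = 8 ∨ pc (ζV (u9 j)) = 1 := by simp only [ζV_apply]; decide +kernel

def LK : ℕ := 0xf8b000000000000000000000000000000fab00000000000003e2e000000000000000000000000000003eae0000000000000000000000000000000000000000000000000000000000000000000000000000000000000000000000000000000000000000000000000000000000000000000000000000000000000000000000000000000000fca0000000000000000000000003f2a000000000000000000000000fea0000000000000000000000003faa00fd100000000000003f460000000000000000000000000000000000000000000000ff100000000000003fc600fd0003b4000dd00033400000000000000000000000000000000000000000000000ff0003bc000df00033c000f4000000000000003d8000b4000000000000002d800074000000000000001d800034000000000000000d8000f0000380000d0000300000b00002800009000020000070000180000500001000003000008000010000000000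
def f8 (t : TS) (k : ℕ) : Fin 8 := ⟨(LK >>> (22 * t.n + 3 * k)) % 8, Nat.mod_lt _ (by decide)⟩
def loS (t : TS) : Equiv.Perm (Fin 8) :=
  Equiv.swap (f8 t 0) (f8 t 1) * Equiv.swap (f8 t 2) (f8 t 3) * Equiv.swap (f8 t 4) (f8 t 5)
def loT (t : TS) : TS := ts ((LK >>> (22 * t.n + 18)) % 16)
theorem lo_chk : ∀ t : TS, t * t = 1 → loT t ∈ Lo ∧ ∀ i, loS t (pS t i) = pS (loT t) (loS t i) := by decide +kernel

theorem odd {K : Subgroup (Equiv.Perm (Fin 8))} (h : (Nat.card K).Coprime 2)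
    (hn : ∀ t ∈ A0, ∀ k ∈ K, τS t * k * (τS t)⁻¹ ∈ K) : K = ⊥ := by
  have : MulAction.IsPretransitive (normalizer (K : Set (Equiv.Perm (Fin 8)))) (Fin 8) := ⟨fun i j => by
    obtain ⟨t, ht, e⟩ := (by decide +kernel : ∀ i j, ∃ t, t ∈ A0 ∧ pS t i = j) i j
    exact ⟨⟨τS t, mem_normalizer_fintype (hn t ht)⟩, e⟩⟩
  refine eq_bot_iff.2 fun k hk => Equiv.ext fun a => ?_
  let N := K.subgroupOf (normalizer (K : Set (Equiv.Perm (Fin 8))))
  have h1 := (MulAction.IsBlock.orbit_of_normal (N := N) a).ncard_dvd_card ⟨a, MulAction.mem_orbit_self a⟩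
  have h2 : (MulAction.orbit N a).ncard ∣ Nat.card K := by
    rw [← MulAction.index_stabilizer, ← Nat.card_congr (subgroupOfEquivOfLe le_normalizer).toEquiv]
    exact index_dvd_card _
  rw [Nat.card_fin] at h1
  have h3 := Nat.eq_one_of_dvd_coprimes (h.pow_right 3) h2 h1
  obtain ⟨b, hb⟩ := Set.ncard_eq_one.1 h3
  have h4 : a ∈ MulAction.orbit N a := MulAction.mem_orbit_self a
  have h5 : k a ∈ MulAction.orbit N a := ⟨⟨⟨k, le_normalizer hk⟩, hk⟩, rfl⟩
  rw [hb] at h4 h5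
  exact h5.trans h4.symm

end S9

theorem pc_pm (σ : Equiv.Perm (Fin 8)) (v : V) : pc (pm σ v) = pc v := by
  induction σ using Equiv.Perm.swap_induction_on generalizing v with
  | one => rw [map_one, MulAut.one_apply]
  | swap_mul f x y _ ih => rw [map_mul, MulAut.mul_apply, S9.pc_sw, ih]
theorem pm_trans {u v : V} (h : pc u = pc v) : ∃ σ, pm σ u = v := by
  obtain ⟨σ, h1⟩ := S9.nf8 u
  obtain ⟨τ, h2⟩ := S9.nf8 v
  exact ⟨τ⁻¹ * σ, by rw [map_mul, MulAut.mul_apply, h1, h, ← h2, map_inv, MulAut.inv_apply_self]⟩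
theorem pm_255 (σ : Equiv.Perm (Fin 8)) : pm σ (vv 255) = vv 255 := by
  induction σ using Equiv.Perm.swap_induction_on with
  | one => rw [map_one, MulAut.one_apply]
  | swap_mul f x y _ ih => rw [map_mul, MulAut.mul_apply, ih, S9.sw_255]
theorem w9_pm9 (σ : Equiv.Perm (Fin 9)) (v : V) : w9 (pm9 σ v) = w9 v := by
  induction σ using Equiv.Perm.swap_induction_on generalizing v with
  | one => rw [map_one, MulAut.one_apply]
  | swap_mul f x y _ ih => rw [map_mul, MulAut.mul_apply, S9.w9_sw, ih]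
theorem pm9_trans {u v : V} (h : w9 u = w9 v) : ∃ σ, pm9 σ u = v := by
  obtain ⟨σ, h1⟩ := S9.nf9 u
  obtain ⟨τ, h2⟩ := S9.nf9 v
  exact ⟨τ⁻¹ * σ, by rw [map_mul, MulAut.mul_apply, h1, h, ← h2, map_inv, MulAut.inv_apply_self]⟩
theorem pm9_u9 (σ : Equiv.Perm (Fin 9)) (j : Fin 9) : pm9 σ (u9 j) = u9 (σ j) := by
  induction σ using Equiv.Perm.swap_induction_on with
  | one => rw [map_one, MulAut.one_apply, Equiv.Perm.one_apply]
  | swap_mul f x y _ ih => rw [map_mul, MulAut.mul_apply, ih, S9.sw_u9, Equiv.Perm.mul_apply]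
theorem u9_inj : Function.Injective u9 := fun i j => (by decide +kernel : ∀ i j, u9 i = u9 j → i = j) i j
theorem u9_last : u9 8 = vv 255 := by decide +kernel
theorem pm9_inj : Function.Injective pm9 := fun σ τ h => Equiv.ext fun j => u9_inj (by rw [← pm9_u9, h, pm9_u9])
/-- the extension of a permutation of eight points -/
theorem exists_ext (σ : Equiv.Perm (Fin 8)) :
    ∃ τ : Equiv.Perm (Fin 9), τ 8 = 8 ∧ (∀ i, τ i.castSucc = (σ i).castSucc) ∧ pm9 τ = pm σ := by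
  suffices ∃ τ : Equiv.Perm (Fin 9), τ 8 = 8 ∧ ∀ i, τ i.castSucc = (σ i).castSucc from
    let ⟨τ, h1, h2⟩ := this; ⟨τ, h1, h2, S9.ext_eq h1 h2⟩
  induction σ using Equiv.Perm.swap_induction_on with
  | one => exact ⟨1, rfl, fun _ => rfl⟩
  | swap_mul f x y _ ih =>
    obtain ⟨τ, h1, h2⟩ := ih
    refine ⟨Equiv.swap x.castSucc y.castSucc * τ, ?_, fun i => ?_⟩
    · rw [Equiv.Perm.mul_apply, h1]
      exact Equiv.swap_apply_of_ne_of_ne (Fin.castSucc_lt_last x).ne' (Fin.castSucc_lt_last y).ne'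
    · rw [Equiv.Perm.mul_apply, h2, Equiv.Perm.mul_apply, (Fin.castSucc_injective 8).swap_apply]
theorem pm9_fix {τ : Equiv.Perm (Fin 9)} (h : τ 8 = 8) : ∃ σ, pm9 τ = pm σ := by
  have k : ∀ i : Fin 8, τ i.castSucc ≠ Fin.last 8 := fun i e => (Fin.castSucc_lt_last i).ne (τ.injective (e.trans h.symm))
  exact ⟨Equiv.ofBijective (fun i => (τ i.castSucc).castPred (k i)) (Finite.injective_iff_bijective.1 fun i j e =>
    Fin.castSucc_injective 8 (τ.injective (by simpa using congrArg Fin.castSucc e))), S9.ext_eq h fun i => by simp⟩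
theorem pm_le_pm9 : pm.range ≤ pm9.range := by
  rintro _ ⟨σ, rfl⟩
  obtain ⟨τ, -, -, h⟩ := exists_ext σ
  exact ⟨τ, h⟩
theorem ζV_pm (σ : Equiv.Perm (Fin 8)) : ζV * pm σ = pm σ * ζV := SX.aut_ext fun i => by
  rw [MulAut.mul_apply, MulAut.mul_apply, pm_e, S9.ζV_e, S9.ζV_e, map_mul, pm_e, pm_255]
theorem ζV_sq : ζV * ζV = 1 := SX.aut_ext fun i => by
  rw [MulAut.mul_apply, S9.ζV_e, map_mul, S9.ζV_e, S9.ζV_255, mul_assoc, SX.V.mul_self, mul_one, MulAut.one_apply]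
theorem pm9'_apply (σ : Equiv.Perm (Fin 9)) (v : V) : pm9' σ v = ζV (pm9 σ (ζV v)) := by
  change (ζV * pm9 σ * ζV⁻¹) v = _
  rw [inv_eq_of_mul_eq_one_right ζV_sq]
  rfl
theorem pm_le_pm9' : pm.range ≤ pm9'.range := by
  rintro _ ⟨σ, rfl⟩
  obtain ⟨τ, -, -, h⟩ := exists_ext σ
  refine ⟨τ, ?_⟩
  change ζV * pm9 τ * ζV⁻¹ = _
  rw [h, ζV_pm, mul_inv_cancel_right]
/-- the orbit of `255` -/
theorem pc_orb {ψ : MulAut V} (h : ψ ∈ pm.range ∨ ψ ∈ pm9.range ∨ ψ ∈ pm9'.range) :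
    pc (ψ (vv 255)) = 8 ∨ pc (ψ (vv 255)) = 7 ∨ pc (ψ (vv 255)) = 1 := by
  rcases h with ⟨σ, rfl⟩ | ⟨σ, rfl⟩ | ⟨σ, rfl⟩
  · rw [pm_255]
    exact Or.inl (by decide +kernel)
  · rw [← u9_last, pm9_u9]
    exact (by decide +kernel : ∀ j, pc (u9 j) = 8 ∨ pc (u9 j) = 7 ∨ pc (u9 j) = 1) _
  · rw [pm9'_apply, S9.ζV_255, ← u9_last, pm9_u9]
    exact (S9.pc_ζ _).imp_right Or.inr
theorem pc_orb' (σ : Equiv.Perm (Fin 9)) : pc (pm9' σ (vv 255)) = 8 ∨ pc (pm9' σ (vv 255)) = 1 := by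
  rw [pm9'_apply, S9.ζV_255, ← u9_last, pm9_u9]
  exact S9.pc_ζ _
/-- `τS.range`, `σ1`, `σ2` generate `S₈`: all transpositions are conjugate to `(0 1) = τS (ts 1)` under words in them -/
theorem gen_S8 {K : Subgroup (Equiv.Perm (Fin 8))} (h : τS.range ≤ K) (h1 : σ1 ∈ K) (h2 : σ2 ∈ K) : K = ⊤ := by
  have c : ∀ g ∈ K, ∀ i j, Equiv.swap i j ∈ K → Equiv.swap (g i) (g j) ∈ K := fun g hg i j hs => by
    rw [Equiv.swap_apply_apply]
    exact mul_mem (mul_mem hg hs) (inv_mem hg)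
  have tr : ∀ {i j k : Fin 8}, Equiv.swap i j ∈ K → Equiv.swap j k ∈ K → Equiv.swap i k ∈ K :=
    SubmonoidClass.swap_mem_trans K
  have s1 : Equiv.swap 0 1 ∈ K := by
    rw [show Equiv.swap 0 1 = τS (ts 1) from Equiv.ext (by decide +kernel)]
    exact h ⟨_, rfl⟩
  have s2 : Equiv.swap 0 2 ∈ K := c _ h2 _ _ s1
  have s3 : Equiv.swap 0 3 ∈ K := c _ h2 _ _ s2
  have s4 : Equiv.swap 0 4 ∈ K := c _ h1 _ _ s2
  have s5 : Equiv.swap 0 5 ∈ K := c _ h1 _ _ s3
  have s6 : Equiv.swap 0 6 ∈ K := c _ h1 _ _ s4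
  have s7 : Equiv.swap 0 7 ∈ K := c _ h1 _ _ s5
  have s : ∀ j, Equiv.swap 0 j ∈ K := fun j => by
    fin_cases j
    exacts [(Equiv.swap_self (0 : Fin 8)).symm ▸ one_mem K, s1, s2, s3, s4, s5, s6, s7]
  refine eq_top_iff.2 fun g _ => ?_
  induction g using Equiv.Perm.swap_induction_on with
  | one => exact one_mem _
  | swap_mul f x y _ ih => exact mul_mem (tr (Equiv.swap_comm 0 x ▸ s x) (s y)) (ih trivial)
theorem tv_swap {i j : Fin 8} (h : i ≠ j) : IsTv (pm (Equiv.swap i j)) (e i * e j) (e i * e j) := by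
  revert i j
  simp only [IsTv, pm_apply]
  decide +kernel
theorem tv_swap9 (i : Fin 8) : IsTv (pm9 (Equiv.swap i.castSucc 8)) (e i) (e i * vv 255) := by
  revert i
  simp only [IsTv, pm9_apply]
  decide +kernel
theorem tv_swap9' (i : Fin 8) : IsTv (pm9' (Equiv.swap i.castSucc 8)) (e i * vv 255) (e i) := by
  revert i
  simp only [IsTv, pm9'_apply, pm9_apply, ζV_apply]
  decide +kernel
/-- an involution of `TS` is conjugate in `S₈` to a product of the `ab i` (cycle types, or a table of 44 words) -/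
theorem conj_Lo {t : TS} (h : t * t = 1) : ∃ σ, ∃ t' ∈ Lo, σ * τS t * σ⁻¹ = τS t' := by
  obtain ⟨h1, h2⟩ := S9.lo_chk t h
  exact ⟨S9.loS t, S9.loT t, h1, mul_inv_eq_iff_eq_mul.2 (Equiv.ext h2)⟩
/-- a normal subgroup of odd order -/
theorem odd_S8 {K : Subgroup (Equiv.Perm (Fin 8))} [K.Normal] (h : (Nat.card K).Coprime 2) : K = ⊥ :=
  S9.odd h fun _ _ k hk => Subgroup.Normal.conj_mem inferInstance k hk _
/-- The orbits of `K` are permuted transitively by the translations, so they have a common length that is odd and divides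
8. (Or: `K` is generated by the centralisers of the fixed point free involutions `τS t`, `t ∈ A0`…) -/
theorem odd_A0 {K : Subgroup (Equiv.Perm (Fin 8))} (h : (Nat.card K).Coprime 2)
    (hn : ∀ t ∈ A0, ∀ k ∈ K, τS t * k * (τS t)⁻¹ ∈ K) : K = ⊥ :=
  S9.odd h hn

end CL.HA
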