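import Cfsg.Agent.INV.HA.Defs

/-!
Harada's theorem on `E₁₆ · GL₄(2)`: charts and the stages of the proof.
-/

set_option autoImplicit false
set_option maxHeartbeats 400000

namespace CL.HA
open Subgroup CL.MSS CL.PComp
open CL.SX (V vv e ZZ)

variable {G : Type*} [Group G]

abbrev NN (X : Subgroup G) : Subgroup G := normalizer (X : Set G)
abbrev CC (X : Subgroup G) : Subgroup G := centralizer (X : Set G)
abbrev Cz (g : G) : Subgroup G := centralizer ({g} : Set G)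
/-- odd order -/
abbrev Od (X : Subgroup G) : Prop := (Nat.card X).Coprime 2
/-- `O(C(w))` -/
abbrev th (w : G) : Subgroup G := opOf 2 (Cz w)

/-- the hypothesis of the theorem -/
structure Hy (A : Subgroup G) : Prop where
  sq : ∀ a ∈ A, a * a = 1
  card : Nat.card A = 16
  syl : SylIn 2 A (CC A)
  aut : ∀ ψ : MulAut A, ∃ g : G, ∀ a : A, g * a * g⁻¹ = ψ a
  cpl : ∃ L ≤ NN A, L ⊓ A = ⊥ ∧ ∀ g ∈ NN A, ∃ a ∈ A, a * g ∈ L

/-! ### charts -/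

/-- `s` is an injective homomorphism on `X` -/
structure Ch (X : Subgroup P) (s : P → G) : Prop where
  mul : ∀ m ∈ X, ∀ n ∈ X, s (m * n) = s m * s n
  inj : ∀ m ∈ X, s m = 1 → m = 1

/-- the image of a subgroup -/
def im {H : Type*} [Group H] (s : H → G) (Y : Subgroup H) : Subgroup G := closure (s '' Y)

/-- `g` acts on `s Y` as `f` -/
def Ac (g : G) (s : P → G) (Y : Subgroup P) (f : P → P) : Prop := ∀ m ∈ Y, g * s m * g⁻¹ = s (f m)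

section
variable {H : Type*} [Group H] {s : H → G} {X Y : Subgroup H} {m : H}

theorem mem_im (s : H → G) (h : m ∈ Y) : s m ∈ im s Y := subset_closure ⟨m, h, rfl⟩
theorem im_mono (s : H → G) (h : X ≤ Y) : im s X ≤ im s Y := closure_mono (Set.image_mono h)
theorem im_le {K : Subgroup G} : im s Y ≤ K ↔ ∀ m ∈ Y, s m ∈ K :=
  (closure_le _).trans ⟨fun h m hm => h ⟨m, hm, rfl⟩, by rintro h _ ⟨m, hm, rfl⟩; exact h m hm⟩
theorem im_congr {s' : H → G} (h : ∀ m ∈ Y, s m = s' m) : im s Y = im s' Y :=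
  congrArg Subgroup.closure (Set.image_congr h)
theorem im_hom (φ : H →* G) (Y : Subgroup H) : im φ Y = Y.map φ := by
  rw [im, ← coe_map, closure_eq]

/-- the homomorphism given by a function that is multiplicative on `X` -/
def mhom (h : ∀ m ∈ X, ∀ n ∈ X, s (m * n) = s m * s n) : X →* G :=
  MonoidHom.mk' (fun m => s m) fun m n => h m m.2 n n.2

theorem im_eq_range (h : ∀ m ∈ X, ∀ n ∈ X, s (m * n) = s m * s n) : im s X = (mhom h).range := by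
  rw [im, ← closure_eq (mhom h).range]
  congr 1
  exact Set.ext fun g => ⟨fun ⟨m, hm, e⟩ => ⟨⟨m, hm⟩, e⟩, fun ⟨m, e⟩ => ⟨m, m.2, e⟩⟩

theorem mem_im_iff (h : ∀ m ∈ X, ∀ n ∈ X, s (m * n) = s m * s n) {g : G} :
    g ∈ im s X ↔ ∃ m ∈ X, s m = g := by
  rw [im_eq_range h]
  exact ⟨fun ⟨m, e⟩ => ⟨m, m.2, e⟩, fun ⟨m, hm, e⟩ => ⟨⟨m, hm⟩, e⟩⟩

theorem card_im (h : ∀ m ∈ X, ∀ n ∈ X, s (m * n) = s m * s n) (hi : ∀ m ∈ X, s m = 1 → m = 1) :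
    Nat.card (im s X) = Nat.card X := by
  have : Function.Injective (mhom h) :=
    (injective_iff_map_eq_one _).2 fun m e => Subtype.ext (hi m m.2 e)
  rw [im_eq_range h, MonoidHom.range_eq_map, card_map_of_injective this, card_top]
end

namespace Ch
variable {X Y : Subgroup P} {s : P → G} {m n : P}

theorem mono (h : Ch X s) (hY : Y ≤ X) : Ch Y s :=
  ⟨fun m hm n hn => h.mul m (hY hm) n (hY hn), fun m hm => h.inj m (hY hm)⟩
theorem congr (h : Ch X s) {s' : P → G} (e : ∀ m ∈ X, s m = s' m) : Ch X s' :=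
  ⟨fun m hm n hn => by rw [← e m hm, ← e n hn, ← e _ (mul_mem hm hn), h.mul m hm n hn],
    fun m hm k => h.inj m hm (by rw [e m hm, k])⟩
theorem one (h : Ch X s) : s 1 = 1 := (mhom h.mul).map_one
theorem inv (h : Ch X s) (hm : m ∈ X) : s m⁻¹ = (s m)⁻¹ := (mhom h.mul).map_inv ⟨m, hm⟩
theorem conj (h : Ch X s) (hm : m ∈ X) (hn : n ∈ X) : s m * s n * (s m)⁻¹ = s (m * n * m⁻¹) := by
  rw [h.mul _ (mul_mem hm hn) _ (inv_mem hm), h.mul _ hm _ hn, h.inv hm]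
theorem eq_of (h : Ch X s) (hm : m ∈ X) (hn : n ∈ X) (e : s m = s n) : m = n :=
  mul_inv_eq_one.1 (h.inj _ (mul_mem hm (inv_mem hn)) (by
    rw [h.mul _ hm _ (inv_mem hn), h.inv hn, e, mul_inv_cancel]))
theorem mem_im (h : Ch X s) (hY : Y ≤ X) {g : G} : g ∈ im s Y ↔ ∃ m ∈ Y, s m = g :=
  mem_im_iff (h.mono hY).mul
theorem mem_im' (h : Ch X s) (hY : Y ≤ X) (hm : m ∈ X) : s m ∈ im s Y ↔ m ∈ Y :=
  ⟨fun k => by
    obtain ⟨n, hn, e⟩ := (h.mem_im hY).1 k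
    exact h.eq_of (hY hn) hm e ▸ hn, HA.mem_im s⟩
theorem card_im (h : Ch X s) (hY : Y ≤ X) : Nat.card (im s Y) = Nat.card Y :=
  HA.card_im (h.mono hY).mul (h.mono hY).inj
theorem pg (h : Ch X s) (hY : Y ≤ X) : IsPGroup 2 (im s Y) := by
  rw [im_eq_range (h.mono hY).mul, MonoidHom.range_eq_map]
  exact ((pgP Y).to_subgroup ⊤).map _
theorem comm (h : Ch X s) (hm : m ∈ X) (hn : n ∈ X) : s m * s n = s n * s m ↔ m * n = n * m := by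
  rw [← h.mul m hm n hn, ← h.mul n hn m hm]
  exact ⟨h.eq_of (mul_mem hm hn) (mul_mem hn hm), congrArg s⟩
theorem of_hom {φ : P →* G} (h : Function.Injective φ) : Ch ⊤ φ :=
  ⟨fun m _ n _ => map_mul φ m n, fun m _ => (injective_iff_map_eq_one φ).1 h m⟩
theorem injective {φ : P →* G} (h : Ch ⊤ φ) : Function.Injective φ :=
  (injective_iff_map_eq_one φ).2 fun m => h.inj m trivial
end Ch

/-! ### the normaliser of `A` -/

/-- a chart on a Sylow 2-subgroup of `N(A)` -/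
structure N0 (s : P → G) (O : Subgroup G) : Prop where
  ch : Ch T0 s
  odd : Od O
  Ole : O ≤ CC (im s A)
  cen : ∀ g ∈ CC (im s A), ∃ m ∈ A, ∃ o ∈ O, g = s m * o
  nO : NN (im s A) ≤ NN O
  syl : SylIn 2 (im s T0) (NN (im s A))
  om : ∃ g, Ac g s T02 omg
  r1 : ∃ g, Ac g s T00 rh
  r2 : ∃ g, Ac g s T01 rh'
  n7 : NN (im s A) ⊓ NN (im s Q) ≤ NN (im s A')
  ncj : ∀ g ∈ NN (im s A), g * s e24 * g⁻¹ ≠ s (e24 * z)

/-- case (b) -/
structure Cb (s : P → G) (y : G) : Prop where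
  nT : y ∈ NN (im s T0)
  sq : y * y ∈ im s T0
  h1 : y •ᶜ im s A = im s A'
  h2 : y •ᶜ im s A' = im s A

/-- case (c) -/
structure Cc (s : P → G) (δ : G) : Prop where
  nT : δ ∈ NN (im s T0)
  cen : δ ∈ CC (im s A')
  nA : δ ∉ NN (im s A)
  sq : δ * δ ∈ im s A'

/-! ### case (c): climbing -/

/-- coordinates `c` on a Sylow 2-subgroup of `N(Q) ⊓ C(A')` -/
structure Fs (s : P → G) (c : V → G) (g1 g2 : G) : Prop where
  mul : ∀ v ∈ Ev, ∀ w ∈ Ev, c (v * w) = c v * c w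
  inj : ∀ v ∈ Ev, c v = 1 → v = 1
  ext : ∀ v ∈ RM, c v = s (il v)
  qa : ∀ t ∈ A0, ∀ v ∈ Ev, s (ir t) * c v * (s (ir t))⁻¹ = c (aS t v)
  syl : SylIn 2 (im c Ev) (NN (im s Q) ⊓ CC (im s A'))
  nT : im s T0 ≤ NN (im c Ev)
  a1 : Ac g1 s T00 rh
  n1 : g1 ∈ NN (im c Ev)
  a2 : Ac g2 s T01 rh'
  n2 : g2 ∈ NN (im c Ev)

/-- `g` acts as `σ` up to the transvection with centre `255` and axis `w ^ ⊥` -/
def Tw (g : G) (c : V → G) (σ : V → V) (w : V) : Prop :=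
  ∀ v ∈ Ev, g * c v * g⁻¹ = c (σ v * bc (dot v w) (vv 255))

/-- normalised coordinates: standard (`tw = false`) or twisted -/
structure Fc (s : P → G) (c : V → G) (g1 g2 : G) (tw : Bool) : Prop extends Fs s c g1 g2 where
  t23 : Tw (s e23) c (aS (ts 10)) (bc tw (vv 0xf0))
  t24 : Tw (s e24) c (aS (ts 12)) (bc tw (vv 0x3c))
  t34 : Tw (s e34) c (aS (ts 32)) (bc tw (vv 0xaa))
  t1 : Tw g1 c r1V 1
  t2 : Tw g2 c r2V (bc tw (vv 0xaa))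

/-- `E0 = F0 ⟨r⟩` -/
structure Rr (s : P → G) (c : V → G) (E0 : Subgroup G) (r : G) : Prop where
  mem : r ∈ E0
  nmem : r ∉ im c Ev
  idx : ∀ u ∈ E0, u ∈ im c Ev ∨ u * r ∈ im c Ev
  sq : r * r = 1 ∨ r * r = s z
  qa : ∀ t ∈ A0, s (ir t) * r * (s (ir t))⁻¹ = r * c (e 0 * e (pS t 0))

/-- a Sylow 2-subgroup of `C(A')` -/
structure Es (s : P → G) (c : V → G) (g1 g2 : G) (E0 : Subgroup G) : Prop where
  syl : SylIn 2 E0 (CC (im s A'))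
  le : im c Ev ≤ E0
  comm : ∀ u ∈ E0, ∀ w ∈ E0, u * w = w * u
  nT : im s T0 ≤ NN E0
  n1 : g1 ∈ NN E0
  n2 : g2 ∈ NN E0
  cR : ∀ u ∈ E0, ∀ m ∈ R, u * s m * u⁻¹ * (s m)⁻¹ ∈ im c ZZ
  cQ : ∀ g ∈ NN E0, g ∈ CC (im s Q) → g ∈ CC E0
  alt : E0 = im c Ev ∨ ∃ r, Rr s c E0 r

/-- a Sylow 2-subgroup of `C(R)`, with a chart `s2` on `D A` -/
structure Ds (s : P → G) (c : V → G) (E0 : Subgroup G) (g0 g1 : G) (s2 : P → G) : Prop where
  ch : Ch DA s2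
  ex1 : ∀ m ∈ RA, s2 m = s m
  ex2 : ∀ v ∈ ZZ, s2 (il v) = c v
  syl : SylIn 2 (im s2 D) (CC (im s R))
  a0 : Ac g0 s T02 omg
  a0' : Ac g0 s2 DA omg
  nT : im s T0 ≤ NN (im s2 D)
  nE : E0 ≤ NN (im s2 D)
  n1 : g1 ∈ NN (im s2 D)
  cen : ∀ g ∈ NN (im s2 D), g ∈ CC (im s RA) → g ∈ CC (im s2 D)

/-- the action of `ξ = s2 x` in the standard case -/
structure Xs (s : P → G) (c : V → G) (E0 : Subgroup G) (g1 ξ : G) : Prop where
  act : ∀ v ∈ Ev, ξ * c v * ξ⁻¹ = c (aS (ts 1) v)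
  c34 : s e34 * ξ = ξ * s e34
  c1 : g1 * ξ = ξ * g1
  cE : ∀ u ∈ E0, ξ * u * ξ⁻¹ * u⁻¹ ∈ im c ZZ

/-- `r` behaves as `ε 0` -/
structure Rs (s : P → G) (c : V → G) (g1 g2 ξ r : G) : Prop where
  sq : r * r = 1
  cU : ∀ t ∈ U0, s (ir t) * r = r * s (ir t)
  cx : ξ * r * ξ⁻¹ = r * c (vv 3)
  c1 : g1 * r = r * g1
  c2 : g2 * r = r * g2

/-- the result of the climb, `X = S1` or `X = ⊤` -/
structure Cl (X : Subgroup P) (s : P → G) (O : Subgroup G) : Prop where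
  le : S1 ≤ X
  ch : Ch X s
  n0 : N0 s O
  sE : SylIn 2 (im s (X ⊓ E)) (CC (im s A'))
  sD : SylIn 2 (im s D) (CC (im s R))
  om : ∃ g, Ac g s DB omg
  r1 : ∃ g, Ac g s (X ⊓ DR) rh
  r2 : ∃ g, Ac g s (X ⊓ DR') rh'

/-! ### Sylow type `S₁₆` -/

/-- the automiser in the coordinates `j` -/
def Au (j : V →* G) : Subgroup (MulAut V) where
  carrier := {ψ | ∃ g : G, ∀ v, g * j v * g⁻¹ = j (ψ v)}
  one_mem' := ⟨1, fun v => by simp⟩
  mul_mem' := by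
    rintro a b ⟨g, hg⟩ ⟨k, hk⟩
    exact ⟨g * k, fun v => by rw [MulAut.mul_apply, ← hg, ← hk]; group⟩
  inv_mem' := by
    rintro a ⟨g, hg⟩
    exact ⟨g⁻¹, fun v => by
      conv_lhs => rw [← MulAut.apply_inv_self V a v, ← hg]
      group⟩

theorem mem_Au {j : V →* G} {ψ : MulAut V} : ψ ∈ Au j ↔ ∃ g : G, ∀ v, g * j v * g⁻¹ = j (ψ v) := Iff.rfl

/-- `g` induces `ψ` on `φ E` -/
def In (φ : P →* G) (g : G) (ψ : MulAut V) : Prop := ∀ v, g * φ (il v) * g⁻¹ = φ (il (ψ v))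

structure Fx (φ : P →* G) (O : Subgroup G) : Prop extends Cl ⊤ φ O where
  syl : SylIn 2 φ.range ⊤
  pm : pm.range ≤ Au (φ.comp il)

/-- a 3-cycle on block `0` -/
structure Y0 (φ : P →* G) (y : G) : Prop where
  h1 : y * φ d * y⁻¹ = φ x
  h2 : y * φ x * y⁻¹ = φ (x * d)
  cen : ∀ m ∈ J', y * φ m = φ m * y

structure Fy (φ : P →* G) (O : Subgroup G) : Prop extends Fx φ O where
  y0 : ∃ y, Y0 φ y

structure Fz (φ : P →* G) (O : Subgroup G) : Prop extends Fy φ O where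
  au : Au (φ.comp il) = pm9.range

/-- the nine signalizers -/
structure Fam (φ : P →* G) (Θ : Fin 9 → Subgroup G) : Prop where
  odd : ∀ j, Od (Θ j)
  inf : ∀ j, Θ j ⊓ Cz (φ (il (u9 j))) = th (φ (il (u9 j)))
  cen : ∀ j, Cz (φ (il (u9 j))) ≤ NN (Θ j)
  eqv : ∀ g σ, In φ g (pm9 σ) → ∀ j, g •ᶜ Θ j = Θ (σ j)
  yy : ∀ y, Y0 φ y → y ∈ NN (Θ 8)

/-- the common part of the signalizers -/
structure Dl (φ : P →* G) (Θ Δ : Subgroup G) : Prop where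
  le : Δ ≤ Θ
  nE : NN (E.map φ) ≤ NN Δ
  nz : Cz (φ z) ≤ NN Δ
  ny : ∀ y, Y0 φ y → y ∈ NN Δ
  alt : Δ = Θ ∨ Δ.relIndex Θ = 3 ∧ (∀ g ∈ Θ, ∀ v ∈ Ev, g⁻¹ * (φ (il v) * g * (φ (il v))⁻¹) ∈ Δ) ∧
    ∃ g ∈ Θ, g⁻¹ * (φ (ε 0) * g * (φ (ε 0))⁻¹) ∉ Δ

/-- `H = ⟨s⟩ ⋊ (V ⋊ S₈)` with `s = 1` or `s` of order 3 -/
structure Pres {H : Type*} [Group H] (s : H) (i : V →* H) (k : Equiv.Perm (Fin 8) →* H) : Prop where
  s3 : s ^ 3 = 1
  ki : ∀ σ v, k σ * i v * (k σ)⁻¹ = i (pm σ v)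
  ks : ∀ σ, k σ * s = s * k σ
  is : ∀ p, i (e p) * s * (i (e p))⁻¹ = s⁻¹
  gen : ∀ h, ∃ (n : ℕ) (v : V) (σ : Equiv.Perm (Fin 8)), h = s ^ n * i v * k σ
  card : Nat.card H = orderOf s * (256 * 40320)

end CL.HA
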